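import Cfsg.Agent.QTKE.CComp.GL2
import Cfsg.Agent.QTKE.Uniq.RankAction
import Cfsg.Agent.Components.GenFitting
import Cfsg.Agent.Components.Structure

/-!
With odd ranks at most two and `O₂ = 1`, perfect subnormal subgroups normalising each other that commute modulo a
solvable subgroup commute.
-/

set_option autoImplicit false
set_option linter.unusedSectionVars false
set_option linter.style.haveILetI false

namespace Cfsg.Lib.QTCComp

open Subgroup Cfsg.Lib.Components
open Cfsg.Lib.CoprimeLayer (eq_bot_of_perfect_solvable perfect_map)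
open Cfsg.Lib.QTUniq (isPerfect_subtype isSolvable_map)
open scoped commutatorElement

universe u

variable {Y : Type u} [Group Y] [Finite Y]

/-- a perfect subgroup is generated by its elements of order prime to `r` -/
theorem le_closure_coprime {M : Subgroup Y} (hM : ⁅M, M⁆ = M) (r : ℕ) [Fact r.Prime] :
    M ≤ closure {x | x ∈ M ∧ (orderOf x).Coprime r} := by
  classical
  have hr : r.Prime := Fact.out
  haveI : Group.IsPerfect M := isPerfect_subtype hM
  set N := closure {x : M | (orderOf x).Coprime r} with hN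
  haveI : N.Normal := by
    refine ⟨fun x hx g => ?_⟩
    have h : N.map (MulAut.conj g).toMonoidHom ≤ N := by
      rw [hN, MonoidHom.map_closure]
      refine closure_mono ?_
      rintro _ ⟨y, hy, rfl⟩
      show (orderOf (MulAut.conj g y)).Coprime r
      rw [MulEquiv.orderOf_eq]; exact hy
    exact h ⟨x, hx, rfl⟩
  have hq : IsPGroup r (M ⧸ N) := fun b => by
    obtain ⟨x, rfl⟩ := QuotientGroup.mk_surjective b
    refine ⟨(orderOf x).factorization r, ?_⟩
    rw [← QuotientGroup.mk_pow, QuotientGroup.eq_one_iff]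
    refine Subgroup.subset_closure (show (orderOf (x ^ r ^ (orderOf x).factorization r)).Coprime r from ?_)
    rw [orderOf_pow_of_dvd (pow_ne_zero _ hr.ne_zero) (Nat.ordProj_dvd _ _)]
    exact (Nat.coprime_ordCompl hr (orderOf_pos x).ne').symm
  haveI := hq.isNilpotent
  intro x hx
  have h1 : (⟨x, hx⟩ : M) ∈ N :=
    (QuotientGroup.eq_one_iff _).1 (Cfsg.Lib.OutSol.perfect_hom_trivial (QuotientGroup.mk' N) ⟨x, hx⟩)
  have h2 := mem_map_of_mem M.subtype h1
  rw [hN, MonoidHom.map_closure] at h2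
  refine closure_mono ?_ h2
  rintro _ ⟨y, hy, rfl⟩
  exact ⟨y.2, by rw [orderOf_injective M.subtype M.subtype_injective]; exact hy⟩

/-- one of two such subgroups centralises `O_r` -/
theorem centralizes_pCore_or (hrk : ∀ r : ℕ, r.Prime → r ≠ 2 → Cfsg.PRankLE r 2 Y) (hO : Cfsg.pCore 2 Y = ⊥)
    {M1 M2 : Subgroup Y} (h1 : ⁅M1, M1⁆ = M1) (h2 : ⁅M2, M2⁆ = M2)
    (hn : M1 ≤ normalizer ((⁅M1, M2⁆ : Subgroup Y) : Set Y)) (hs : Group.IsSolvable (⁅M1, M2⁆ : Subgroup Y))
    {r : ℕ} (hr : r.Prime) :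
    M1 ≤ centralizer (Cfsg.pCore r Y : Set Y) ∨ M2 ≤ centralizer (Cfsg.pCore r Y : Set Y) := by
  classical
  haveI := Fact.mk hr
  by_cases hr2 : r = 2
  · subst hr2
    left
    intro x _
    refine mem_centralizer_iff.2 fun y hy => ?_
    rw [hO] at hy
    rw [show y = 1 from mem_bot.1 hy, one_mul, mul_one]
  set P0 := Cfsg.pCore r Y with hP0
  have hP0p : IsPGroup r P0 := isPGroup_pCore r
  obtain ⟨Dc, hDc, hDexp, hD⟩ := Cfsg.Lib.OddP.exists_exponent_critical hr2 hP0p
  set U := Dc.map P0.subtype with hU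
  have hUp : IsPGroup r U := (hP0p.to_subgroup Dc).map _
  have hP0n : normalizer (P0 : Set Y) = ⊤ := normalizer_eq_top P0
  have hUn : normalizer (U : Set Y) = ⊤ := by
    rw [eq_top_iff, ← hP0n]
    exact Cfsg.Lib.OddP.le_normalizer_map_of_char Dc
  have hexpU : ∀ y : U, y ^ r = 1 := by
    rintro ⟨_, y, hy, rfl⟩
    exact Subtype.ext (by show (y : Y) ^ r = 1; rw [← SubgroupClass.coe_pow, hDexp y hy]; rfl)
  have hrU : Cfsg.PRankLE r 2 U :=
    Cfsg.Lib.OddP.pRankLE_of_injective U.subtype U.subtype_injective (hrk r hr hr2)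
  obtain ⟨k, hk, hkc⟩ := Cfsg.Lib.OddP.frattini_quotient_small hUp hrU hexpU
  haveI := Cfsg.Lib.PGroups.isMulCommutative_quotient_frattini hUp
  letI : CommGroup (U ⧸ frattini U) :=
    { (inferInstance : Group (U ⧸ frattini U)) with mul_comm := mul_comm' }
  let ρ : Y →* normalizer (U : Set Y) := (MonoidHom.id Y).codRestrict _ fun y => hUn ▸ mem_top y
  let φ : Y →* MulAut (U ⧸ frattini U) := (Cfsg.Lib.OddP.frattiniAction U).comp ρ
  haveI : Finite (MulAut (U ⧸ frattini U)) :=
    Finite.of_injective (fun e => (e : U ⧸ frattini U → U ⧸ frattini U)) DFunLike.coe_injective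
  have key : ∀ M : Subgroup Y, ⁅M, M⁆ = M → M.map φ = ⊥ → M ≤ centralizer (P0 : Set Y) := by
    intro M hM hker
    rw [Subgroup.map_eq_bot_iff] at hker
    refine (le_closure_coprime hM r).trans ((closure_le _).2 ?_)
    rintro x ⟨hx, hxr⟩
    have hcop : (Nat.card (zpowers x)).Coprime r := by rwa [Nat.card_zpowers]
    refine hD (zpowers x) (by rw [hP0n]; exact le_top) hcop ?_ (mem_zpowers x)
    refine Cfsg.Lib.OddP.le_centralizer_of_frattiniAction hUp hcop (by rw [hUn]; exact le_top) fun a ha => ?_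
    exact MonoidHom.mem_ker.1 (hker (zpowers_le.2 hx ha))
  rcases (show k ≤ 1 ∨ k = 2 by omega) with hk1 | rfl
  · haveI : IsCyclic (MulAut (U ⧸ frattini U)) := by
      rcases (show k = 0 ∨ k = 1 by omega) with rfl | rfl
      · haveI : Subsingleton (U ⧸ frattini U) := (Nat.card_eq_one_iff_unique.mp (hkc.trans (pow_zero r))).1
        haveI : Subsingleton (MulAut (U ⧸ frattini U)) := ⟨fun a b => MulEquiv.ext fun v => Subsingleton.elim _ _⟩
        infer_instance
      · exact Cfsg.Lib.QTUniq.isCyclic_mulAut_of_card hr (hkc.trans (pow_one r))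
    letI : CommGroup (MulAut (U ⧸ frattini U)) := IsCyclic.commGroup
    left
    refine key M1 h1 (eq_bot_of_perfect_solvable (perfect_map φ h1) le_rfl ?_)
    exact Group.isSolvable_of_comm fun a b => Subtype.ext (mul_comm (a : MulAut (U ⧸ frattini U)) b)
  letI : Module (ZMod r) (Additive (U ⧸ frattini U)) := AddCommGroup.zmodModule (n := r)
    (G := Additive (U ⧸ frattini U)) fun m => Cfsg.Lib.PGroups.pow_prime_quotient_frattini hUp m.toMul
  haveI : Module.Finite (ZMod r) (Additive (U ⧸ frattini U)) := Module.Finite.of_finite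
  have hfin : Module.finrank (ZMod r) (Additive (U ⧸ frattini U)) = 2 := by
    have h := Module.natCard_eq_pow_finrank (K := ZMod r) (V := Additive (U ⧸ frattini U))
    rw [Nat.card_congr Additive.toMul, hkc, Nat.card_zmod] at h
    exact (Nat.pow_right_injective hr.two_le h).symm
  let b := Module.finBasisOfFinrankEq (ZMod r) (Additive (U ⧸ frattini U)) hfin
  let lin : MulAut (U ⧸ frattini U) →* Module.End (ZMod r) (Additive (U ⧸ frattini U)) :=
    { toFun := fun a => AddMonoidHom.toZModLinearMap r (MonoidHom.toAdditive a.toMonoidHom)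
      map_one' := LinearMap.ext fun v => rfl
      map_mul' := fun a b => LinearMap.ext fun v => rfl }
  let θ : MulAut (U ⧸ frattini U) →* Matrix (Fin 2) (Fin 2) (ZMod r) :=
    (LinearMap.toMatrixAlgEquiv b).toMonoidHom.comp lin
  let Θ : MulAut (U ⧸ frattini U) →* GL (Fin 2) (ZMod r) := θ.toHomUnits
  have hΘ : Function.Injective Θ := fun a c h => MulEquiv.ext fun m =>
    Additive.ofMul.injective (LinearMap.congr_fun
      ((LinearMap.toMatrixAlgEquiv b).injective (congrArg Units.val h)) (Additive.ofMul m))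
  set f : Y →* GL (Fin 2) (ZMod r) := Θ.comp φ with hf
  have hback : ∀ M : Subgroup Y, M.map f = ⊥ → M.map φ = ⊥ := fun M h => by
    rw [hf, ← Subgroup.map_map] at h
    exact (map_eq_bot_iff_of_injective _ hΘ).1 h
  have hn' : M1.map f ≤ normalizer ((⁅M1.map f, M2.map f⁆ : Subgroup (GL (Fin 2) (ZMod r))) : Set _) := by
    rw [← map_commutator]
    exact (Subgroup.map_mono hn).trans (le_normalizer_map f)
  rcases eq_bot_of_pair (perfect_map f h1) (perfect_map f h2) hn'
    (by rw [← map_commutator]; exact isSolvable_map f hs) with h | h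
  · exact Or.inl (key M1 h1 (hback M1 h))
  · exact Or.inr (key M2 h2 (hback M2 h))

/-- cutting a commutator by a normal subgroup -/
theorem commutator_le_of_centralizes {M1 M2 A B : Subgroup Y} [B.Normal] (h2 : ⁅M2, M2⁆ = M2)
    (hW : ⁅M1, M2⁆ ≤ A ⊔ B) (hA : M2 ≤ centralizer (A : Set Y)) : ⁅M2, M1⁆ ≤ B := by
  set q := QuotientGroup.mk' B with hq
  have hWq : ⁅M1.map q, M2.map q⁆ ≤ A.map q := by
    rw [← map_commutator]
    refine (Subgroup.map_mono hW).trans ?_
    rw [Subgroup.map_sup, hq, QuotientGroup.map_mk'_self, sup_bot_eq]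
  have hz : ∀ K : Subgroup (Y ⧸ B), K ≤ A.map q → ⁅K, M2.map q⁆ = ⊥ := fun K hK => by
    refine le_bot_iff.1 ((commutator_mono hK le_rfl).trans ?_)
    rw [← map_commutator, commutator_eq_bot_iff_le_centralizer.2 (le_centralizer_iff.1 hA), Subgroup.map_bot]
  have h3 : ⁅⁅M2.map q, M2.map q⁆, M1.map q⁆ = ⊥ :=
    commutator_commutator_eq_bot_of_rotate (hz _ (by rw [commutator_comm]; exact hWq)) (hz _ hWq)
  rwa [← map_commutator, h2, ← map_commutator, Subgroup.map_eq_bot_iff, hq, QuotientGroup.ker_mk'] at h3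

/-- such subgroups commute -/
theorem commutator_eq_bot_of_rank (hrk : ∀ r : ℕ, r.Prime → r ≠ 2 → Cfsg.PRankLE r 2 Y)
    (hO : Cfsg.pCore 2 Y = ⊥) {M1 M2 : Subgroup Y} (h1 : ⁅M1, M1⁆ = M1) (h2 : ⁅M2, M2⁆ = M2)
    (hsn : M1.IsSubnormal) (h12 : M1 ≤ normalizer (M2 : Set Y)) (h21 : M2 ≤ normalizer (M1 : Set Y))
    (hs : Group.IsSolvable (⁅M1, M2⁆ : Subgroup Y)) : ⁅M1, M2⁆ = ⊥ := by
  classical
  set W := (⁅M1, M2⁆ : Subgroup Y) with hWdef
  have hWM1 : W ≤ M1 := commutator_le.2 fun a ha b hb => by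
    rw [commutatorElement_def, show a * b * a⁻¹ * b⁻¹ = a * (b * a⁻¹ * b⁻¹) by group]
    exact mul_mem ha ((mem_normalizer_iff.1 (h21 hb) _).1 (Subgroup.inv_mem _ ha))
  have hWn : M1 ⊔ M2 ≤ normalizer (W : Set Y) := fun g hg => by
    refine Cfsg.Lib.Coprime.conjMap_eq_self_iff.1 ?_
    show (⁅M1, M2⁆ : Subgroup Y).map _ = _
    rw [map_commutator,
      show M1.map (MulAut.conj g).toMonoidHom = M1 from
        Cfsg.Lib.Coprime.conjMap_eq_self_iff.2 ((sup_le le_normalizer h21 : M1 ⊔ M2 ≤ _) hg),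
      show M2.map (MulAut.conj g).toMonoidHom = M2 from
        Cfsg.Lib.Coprime.conjMap_eq_self_iff.2 ((sup_le h12 le_normalizer : M1 ⊔ M2 ≤ _) hg)]
  have hWsn : W.IsSubnormal := isSubnormal_of_normal_in hsn hWM1 (le_sup_left.trans hWn)
  have hWM2 : W ≤ M2 := commutator_le.2 fun a ha b hb => by
    rw [commutatorElement_def]
    exact mul_mem ((mem_normalizer_iff.1 (h12 ha) b).1 hb) (Subgroup.inv_mem _ hb)
  have hor := fun r hr => centralizes_pCore_or hrk hO h1 h2 (le_sup_left.trans hWn) hs (r := r) hr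
  -- `W` lies in the Fitting subgroup
  have hWF : W ≤ Cfsg.fittingSubgroup Y := by
    set Z := Cfsg.generalizedFittingSubgroup Y ⊓ centralizer (Cfsg.generalizedFittingSubgroup Y : Set Y) with hZ
    have hWC : W ≤ centralizer (Cfsg.generalizedFittingSubgroup Y : Set Y) := by
      rw [le_centralizer_iff, Cfsg.generalizedFittingSubgroup]
      refine sup_le ?_ ?_
      · refine sSup_le (a := centralizer (W : Set Y)) fun S hS => ?_
        refine commutator_eq_bot_iff_le_centralizer.1 ?_
        rcases comp_le_or_commute hS hWsn with h | h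
        · exact absurd (Group.isSolvable_of_isSolvable_injective (Subgroup.inclusion_injective h)) (comp_not_isSolvable hS)
        · exact h
      · rw [fitting_eq_iSup_pCore]
        refine iSup_le fun r => ?_
        rw [le_centralizer_iff]
        rcases hor r.1 r.2 with h | h
        · exact hWM1.trans h
        · exact hWM2.trans h
    have hWZ : W ≤ Z := le_inf (hWC.trans centralizer_genFitting_le) hWC
    haveI : Z.Normal := inferInstance
    haveI : IsMulCommutative Z := ⟨⟨fun a b => Subtype.ext (mem_centralizer_iff.1 b.2.2 a a.2.1)⟩⟩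
    exact hWZ.trans (le_fitting (letI : CommGroup Z := { (inferInstance : Group Z) with mul_comm := mul_comm' }
      inferInstance))
  -- split the primes
  set A := ⨆ r : {r : ℕ // r.Prime ∧ M2 ≤ centralizer (Cfsg.pCore r Y : Set Y)}, Cfsg.pCore r.1 Y with hA
  set B := ⨆ r : {r : ℕ // r.Prime ∧ ¬ M2 ≤ centralizer (Cfsg.pCore r Y : Set Y)}, Cfsg.pCore r.1 Y with hB
  haveI : A.Normal := iSup_normal _
  haveI : B.Normal := iSup_normal _
  have hFAB : Cfsg.fittingSubgroup Y ≤ A ⊔ B := by
    rw [fitting_eq_iSup_pCore]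
    refine iSup_le fun r => ?_
    by_cases h : M2 ≤ centralizer (Cfsg.pCore r.1 Y : Set Y)
    · exact le_sup_of_le_left (le_iSup (fun s : {r : ℕ // r.Prime ∧ M2 ≤ centralizer (Cfsg.pCore r Y : Set Y)} =>
        Cfsg.pCore s.1 Y) ⟨r.1, r.2, h⟩)
    · exact le_sup_of_le_right (le_iSup (fun s : {r : ℕ // r.Prime ∧ ¬ M2 ≤ centralizer (Cfsg.pCore r Y : Set Y)} =>
        Cfsg.pCore s.1 Y) ⟨r.1, r.2, h⟩)
  have hA2 : M2 ≤ centralizer (A : Set Y) := le_centralizer_iff.2 (iSup_le fun r => le_centralizer_iff.1 r.2.2)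
  have hB1 : M1 ≤ centralizer (B : Set Y) := le_centralizer_iff.2
    (iSup_le fun r => le_centralizer_iff.1 ((hor r.1 r.2.1).resolve_right r.2.2))
  have hWB : W ≤ B := by
    rw [hWdef, commutator_comm]
    exact commutator_le_of_centralizes h2 (hWF.trans hFAB) hA2
  have hWA : W ≤ A := commutator_le_of_centralizes h1
    (by rw [commutator_comm, sup_comm]; exact hWF.trans hFAB) hB1
  by_contra hne
  obtain ⟨p, hp, hpd⟩ := Nat.exists_prime_and_dvd (n := Nat.card W) fun h => hne (card_eq_one.1 h)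
  haveI := Fact.mk hp
  have hcontra : ∀ K : Subgroup Y, W ≤ K → K ≤ Cfsg.pPrimeCore p Y → False := fun K hWK hK => by
    have h1 : (Nat.card K).Coprime p :=
      (coprime_card_pPrimeCore (G := Y) p).coprime_dvd_left (card_dvd_of_le hK)
    exact hp.ne_one (Nat.eq_one_of_dvd_coprimes h1 (hpd.trans (card_dvd_of_le hWK)) dvd_rfl)
  have hother : ∀ r : ℕ, r.Prime → r ≠ p → Cfsg.pCore r Y ≤ Cfsg.pPrimeCore p Y := fun r hr hne => by
    haveI := Fact.mk hr
    obtain ⟨j, hj⟩ := (isPGroup_pCore (G := Y) r).exists_card_eq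
    exact le_pPrimeCore (by rw [hj]; exact ((Nat.coprime_primes hr hp).2 hne).pow_left j)
  by_cases h : M2 ≤ centralizer (Cfsg.pCore p Y : Set Y)
  · exact hcontra B hWB (iSup_le fun r => hother r.1 r.2.1 fun e => r.2.2 (by rwa [e]))
  · exact hcontra A hWA (iSup_le fun r => hother r.1 r.2.1 fun e => h (by rw [← e]; exact r.2.2))

end Cfsg.Lib.QTCComp
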