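import Cfsg.Agent.QTKE.Uniq.Radical
import Cfsg.Agent.OddLocal.GLTwoOdd

/-!
Perfect subgroups of `GL₂`: their normal solvable subgroups are central, and two of them cannot commute
modulo a solvable subgroup.
-/

set_option autoImplicit false
set_option linter.unusedSectionVars false
set_option linter.style.haveILetI false

namespace Cfsg.Lib.QTCComp

open Subgroup Matrix
open Cfsg.Lib.CoprimeLayer (eq_bot_of_perfect_solvable)
open Cfsg.Lib.QTUniq (isPerfect_subtype)
open scoped commutatorElement

variable {F : Type} [Field F]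

local notation "M2" => Matrix (Fin 2) (Fin 2) F
local notation "GL2" => GL (Fin 2) F

/-- scalar matrices are central -/
theorem mem_center_of_scalar {g : GL2} {c : F} (h : (g : M2) = c • (1 : M2)) : g ∈ center GL2 := by
  refine mem_center_iff.2 fun x => Units.ext ?_
  show (x : M2) * g = g * x
  rw [h, smul_mul_assoc, one_mul, mul_smul_comm, mul_one]

theorem nonscalar_of_not_mem_center {g : GL2} (h : g ∉ center GL2) :
    ∀ c : F, (g : M2) ≠ c • (1 : M2) := fun _ hc => h (mem_center_of_scalar hc)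

theorem nonscalar_of_not_commute {a b : GL2} (h : a * b ≠ b * a) : ∀ c : F, (a : M2) ≠ c • (1 : M2) :=
  nonscalar_of_not_mem_center fun hc => h (mem_center_iff.1 hc b).symm

/-- only scalars commute with two non-commuting elements -/
theorem scalar_of_commute_pair {a b g : GL2} (h : a * b ≠ b * a) (hga : g * a = a * g) (hgb : g * b = b * g) :
    ∃ c : F, (g : M2) = c • (1 : M2) := by
  obtain ⟨s, t, hst⟩ := Cfsg.Lib.LinearTwo.exists_linear_of_commute (nonscalar_of_not_commute h)
    (congrArg Units.val hga)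
  have e : (g : M2) * b = b * g := congrArg Units.val hgb
  rw [hst, add_mul, mul_add, smul_mul_assoc, smul_mul_assoc, one_mul, mul_smul_comm, mul_smul_comm, mul_one,
    add_right_inj] at e
  rcases eq_or_ne t 0 with rfl | ht
  · exact ⟨s, by rw [hst, zero_smul, add_zero]⟩
  · exact absurd (Units.ext (smul_right_injective M2 ht e)) h

theorem exists_not_commute {P : Subgroup GL2} (hP : ⁅P, P⁆ = P) (hne : P ≠ ⊥) :
    ∃ a ∈ P, ∃ b ∈ P, a * b ≠ b * a := by
  by_contra hno
  push Not at hno
  exact hne (eq_bot_of_perfect_solvable hP le_rfl (Group.isSolvable_of_comm fun a b =>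
    Subtype.ext (hno a a.2 b b.2)))

theorem false_of_scalar {P : Subgroup GL2} (hP : ⁅P, P⁆ = P) (hne : P ≠ ⊥)
    (h : ∀ g ∈ P, g ∈ center GL2) : False := by
  obtain ⟨a, ha, b, hb, hab⟩ := exists_not_commute hP hne
  exact hab (mem_center_iff.1 (h b hb) a)

/-- a perfect group cannot normalise the algebra of a non-scalar element -/
theorem false_of_abelian {P : Subgroup GL2} (hP : ⁅P, P⁆ = P) (hne : P ≠ ⊥) {w : GL2}
    (hw : w ∉ center GL2) (hconj : ∀ g ∈ P, g * w * g⁻¹ * w = w * (g * w * g⁻¹)) : False := by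
  haveI : Group.IsPerfect P := isPerfect_subtype hP
  have hns := nonscalar_of_not_mem_center hw
  have hlin : ∀ g : P, ∃ a b : F, ((g : GL2) : M2) * w * ((g : GL2)⁻¹ : GL2) = a • (1 : M2) + b • (w : M2) :=
    fun g => Cfsg.Lib.LinearTwo.exists_linear_of_commute hns (by
      simpa using congrArg Units.val (hconj g g.2))
  choose α β hαβ using hlin
  have huniq : ∀ a b a' b' : F, a • (1 : M2) + b • (w : M2) = a' • (1 : M2) + b' • (w : M2) → a = a' ∧ b = b' := by
    intro a b a' b' h
    have h1 : (a - a') • (1 : M2) = (b' - b) • (w : M2) := by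
      rw [sub_smul, sub_smul, sub_eq_sub_iff_add_eq_add, h, add_comm]
    have hb : b = b' := by
      by_contra hb
      refine hns ((a - a') / (b' - b)) ?_
      rw [div_eq_inv_mul, mul_smul, h1, smul_smul, inv_mul_cancel₀ (sub_ne_zero.2 (Ne.symm hb)), one_smul]
    refine ⟨?_, hb⟩
    rw [hb, sub_self, zero_smul, smul_eq_zero] at h1
    exact sub_eq_zero.1 (h1.resolve_right one_ne_zero)
  have hmul : ∀ g h : P, α (g * h) = α h + β h * α g ∧ β (g * h) = β h * β g := by
    intro g h
    refine huniq _ _ _ _ ?_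
    rw [← hαβ]
    calc (((g * h : P) : GL2) : M2) * w * (((g * h : P) : GL2)⁻¹ : GL2)
        = ((g : GL2) : M2) * (((h : GL2) : M2) * w * ((h : GL2)⁻¹ : GL2)) * ((g : GL2)⁻¹ : GL2) := by
          simp [mul_assoc]
      _ = α h • (((g : GL2) : M2) * ((g : GL2)⁻¹ : GL2)) +
          β h • (((g : GL2) : M2) * w * ((g : GL2)⁻¹ : GL2)) := by
          rw [hαβ h, mul_add, add_mul, mul_smul_comm, mul_smul_comm, smul_mul_assoc, smul_mul_assoc, mul_one]
      _ = _ := by
          rw [hαβ g, Units.mul_inv, smul_add, smul_smul, smul_smul, ← add_assoc, ← add_smul]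
  have hone : α 1 = 0 ∧ β 1 = 1 := by
    refine huniq _ _ _ _ ?_
    rw [← hαβ]
    simp
  have hb0 : ∀ g, β g ≠ 0 := fun g h => by
    have := (hmul g g⁻¹).2
    rw [mul_inv_cancel, hone.2, h, mul_zero] at this
    exact one_ne_zero this
  have hβ : ∀ g, β g = 1 := fun g => by
    let f : P →* Fˣ := MonoidHom.mk' (fun g => Units.mk0 (β g) (hb0 g)) fun g h => Units.ext (by
      simp [(hmul g h).2, mul_comm])
    exact congrArg Units.val (Cfsg.Lib.OutSol.perfect_hom_trivial_comm mul_comm f g)
  have hα : ∀ g, α g = 0 := fun g => by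
    let f : P →* Multiplicative F := MonoidHom.mk' (fun g => Multiplicative.ofAdd (α g)) fun g h => by
      rw [(hmul g h).1, hβ h, one_mul, add_comm]; rfl
    exact Multiplicative.ofAdd.injective (Cfsg.Lib.OutSol.perfect_hom_trivial_comm mul_comm f g)
  have hcomm : ∀ g ∈ P, g * w = w * g := fun g hg => by
    refine mul_inv_eq_iff_eq_mul.1 (Units.ext ?_)
    have := hαβ ⟨g, hg⟩
    rw [hα, hβ, zero_smul, one_smul, zero_add] at this
    simpa using this
  obtain ⟨a, ha, b, hb, hab⟩ := exists_not_commute hP hne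
  exact hw (mem_center_of_scalar (scalar_of_commute_pair hab (hcomm a ha).symm (hcomm b hb).symm).choose_spec)

/-- a perfect group cannot normalise a group anticommuting modulo scalars -/
theorem false_of_class_two [Finite F] {P D : Subgroup GL2} (hP : ⁅P, P⁆ = P) (hne : P ≠ ⊥)
    (hn : P ≤ normalizer (D : Set GL2)) (hD : ⁅D, D⁆ ≤ center GL2) {u v : GL2} (hu : u ∈ D) (hv : v ∈ D)
    (huv : u * v ≠ v * u) : False := by
  classical
  haveI : Group.IsPerfect P := isPerfect_subtype hP
  have hsc : ∀ g ∈ center GL2, ∃ c : F, (g : M2) = c • (1 : M2) := fun g hg =>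
    scalar_of_commute_pair huv (mem_center_iff.1 hg u).symm (mem_center_iff.1 hg v).symm
  have hanti : ∀ x ∈ D, ∀ y ∈ D, (x : M2) * y = y * x ∨ (x : M2) * y = -((y : M2) * x) := by
    intro x hx y hy
    obtain ⟨c, hc⟩ := hsc _ (hD (commutator_mem_commutator hx hy))
    have e : (x : M2) * y = c • ((y : M2) * x) := by
      rw [← Units.val_mul, ← Units.val_mul, show x * y = ⁅x, y⁆ * (y * x) by rw [commutatorElement_def]; group,
        Units.val_mul, hc, smul_mul_assoc, one_mul]
    have h1 : c ^ 2 = 1 := by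
      have h2 := congrArg Matrix.det e
      rw [Matrix.det_smul, Matrix.det_mul, Matrix.det_mul, mul_comm (Matrix.det (x : M2)), Fintype.card_fin] at h2
      refine mul_right_cancel₀ (mul_ne_zero ?_ ?_) (h2.symm.trans (one_mul _).symm)
      · exact ((Matrix.isUnit_iff_isUnit_det _).1 y.isUnit).ne_zero
      · exact ((Matrix.isUnit_iff_isUnit_det _).1 x.isUnit).ne_zero
    rcases sq_eq_one_iff.1 h1 with rfl | rfl
    · left; rw [e, one_smul]
    · right; rw [e, neg_one_smul]
  have huv' : (u : M2) * v = -((v : M2) * u) :=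
    (hanti u hu v hv).resolve_left fun h => huv (Units.ext h)
  -- four cosets
  have hfour : ∀ z ∈ D, ∃ e : GL2, e ∈ ({1, u, v, u * v} : Set GL2) ∧ z * e ∈ center GL2 := by
    intro z hz
    have key : ∀ e : GL2, (z : M2) * e * u = (u : M2) * ((z : M2) * e) → (z : M2) * e * v = (v : M2) * ((z : M2) * e) →
        z * e ∈ center GL2 := fun e h1 h2 => mem_center_of_scalar
      (scalar_of_commute_pair huv (Units.ext (by simpa using h1)) (Units.ext (by simpa using h2))).choose_spec
    rcases hanti z hz u hu with h1 | h1 <;> rcases hanti z hz v hv with h2 | h2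
    · exact ⟨1, by simp, key 1 (by simpa using h1) (by simpa using h2)⟩
    · refine ⟨u, by simp, key u (by rw [← mul_assoc, ← h1]) ?_⟩
      rw [mul_assoc, huv', mul_neg, ← mul_assoc, h2, neg_mul, neg_neg, mul_assoc]
    · refine ⟨v, by simp, key v ?_ (by rw [← mul_assoc, ← h2])⟩
      rw [mul_assoc, show (v : M2) * u = -((u : M2) * v) by rw [huv', neg_neg], mul_neg, ← mul_assoc, h1, neg_mul,
        neg_neg, mul_assoc]
    · refine ⟨u * v, by simp, key (u * v) ?_ ?_⟩
      · rw [Units.val_mul, mul_assoc, mul_assoc (u : M2), show (v : M2) * u = -((u : M2) * v) by rw [huv', neg_neg],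
          mul_neg, mul_neg, ← mul_assoc (z : M2), h1, neg_mul, neg_neg, mul_assoc]
      · rw [Units.val_mul, ← mul_assoc (v : M2), show (v : M2) * z = -((z : M2) * v) by rw [h2, neg_neg], neg_mul,
          mul_assoc (z : M2) (v : M2), ← mul_assoc (v : M2) (u : M2),
          show (v : M2) * u = -((u : M2) * v) by rw [huv', neg_neg], neg_mul, mul_neg, neg_neg, mul_assoc]
  set q := QuotientGroup.mk' (center GL2) with hq
  set Db := D.map q with hDb
  have hcard : Nat.card Db ≤ 4 := by
    let f : Fin 4 → Db := ![⟨q 1, mem_map_of_mem q (one_mem D)⟩, ⟨q u⁻¹, mem_map_of_mem q (Subgroup.inv_mem _ hu)⟩,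
      ⟨q v⁻¹, mem_map_of_mem q (Subgroup.inv_mem _ hv)⟩,
      ⟨q (u * v)⁻¹, mem_map_of_mem q (Subgroup.inv_mem _ (mul_mem hu hv))⟩]
    have hf : Function.Surjective f := by
      rintro ⟨_, z, hz, rfl⟩
      obtain ⟨e, he, hze⟩ := hfour z hz
      have hqe : q e⁻¹ = q z := by
        rw [map_inv, inv_eq_iff_mul_eq_one]
        have h3 : q (z * e) = 1 := (QuotientGroup.eq_one_iff _).2 hze
        rw [map_mul] at h3
        exact mul_eq_one_comm.1 h3
      rcases he with rfl | rfl | rfl | rfl
      · exact ⟨0, Subtype.ext (by simpa [f] using hqe)⟩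
      · exact ⟨1, Subtype.ext (by simpa [f] using hqe)⟩
      · exact ⟨2, Subtype.ext (by simpa [f] using hqe)⟩
      · exact ⟨3, Subtype.ext (by simpa [f] using hqe)⟩
    exact (Nat.card_le_card_of_surjective f hf).trans (le_of_eq (Nat.card_fin 4))
  let act : P →* Equiv.Perm Db := MonoidHom.mk' (fun g =>
      (Db.normalizerMonoidHom ⟨q g, le_normalizer_map q (mem_map_of_mem q (hn g.2))⟩).toEquiv) fun g h => by
    refine Equiv.ext fun x => Subtype.ext ?_
    show q (g * h : P) * (x : GL2 ⧸ center GL2) * (q (g * h : P))⁻¹ =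
      q g * (q h * (x : GL2 ⧸ center GL2) * (q h)⁻¹) * (q g)⁻¹
    rw [Subgroup.coe_mul, map_mul, _root_.mul_inv_rev]
    simp [mul_assoc]
  have hfix : ∀ x ∈ D, ∀ g ∈ P, g * x = x * g := by
    intro x hx
    have hs : ∀ g : P, ∃ s : F, ((g : GL2) : M2) * x * ((g : GL2)⁻¹ : GL2) = s • (x : M2) := by
      intro g
      have h1 := congrArg Subtype.val (Equiv.ext_iff.1 (Cfsg.Lib.OutSol.perfect_perm_trivial hcard act g)
        ⟨q x, mem_map_of_mem q hx⟩)
      have h2 : q ((g : GL2) * x * (g : GL2)⁻¹ * x⁻¹) = 1 := by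
        rw [map_mul, map_mul, map_mul, map_inv, map_inv, mul_inv_eq_one]
        exact h1
      obtain ⟨s, hs⟩ := hsc _ ((QuotientGroup.eq_one_iff _).1 h2)
      refine ⟨s, ?_⟩
      have h3 := congrArg (· * (x : M2)) hs
      simpa [mul_assoc, smul_mul_assoc] using h3
    choose s hs using hs
    have hx0 : (x : M2) ≠ 0 := x.ne_zero
    have hs2 : ∀ g h : P, s (g * h) = s h * s g := by
      intro g h
      refine smul_left_injective F hx0 (?_ : s (g * h) • (x : M2) = (s h * s g) • (x : M2))
      rw [← hs, ← smul_smul, ← hs g, ← smul_mul_assoc, ← mul_smul_comm, ← hs h]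
      simp [mul_assoc]
    have hs1 : s 1 = 1 := by
      refine smul_left_injective F hx0 (?_ : s 1 • (x : M2) = (1 : F) • (x : M2))
      rw [← hs]
      simp
    have hs0 : ∀ g, s g ≠ 0 := fun g h => by
      have := hs2 g g⁻¹
      rw [mul_inv_cancel, hs1, h, mul_zero] at this
      exact one_ne_zero this
    let f : P →* Fˣ := MonoidHom.mk' (fun g => Units.mk0 (s g) (hs0 g)) fun g h => Units.ext (by
      simp [hs2 g h, mul_comm])
    intro g hg
    have hone : s ⟨g, hg⟩ = 1 :=
      congrArg Units.val (Cfsg.Lib.OutSol.perfect_hom_trivial_comm mul_comm f ⟨g, hg⟩)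
    refine mul_inv_eq_iff_eq_mul.1 (Units.ext ?_)
    have := hs ⟨g, hg⟩
    rw [hone, one_smul] at this
    simpa using this
  exact false_of_scalar hP hne fun g hg => mem_center_of_scalar
    (scalar_of_commute_pair huv (hfix u hu g hg) (hfix v hv g hg)).choose_spec

/-- solvable subgroups normalised by a perfect subgroup of `GL₂` are central -/
theorem le_center_of_solvable [Finite F] {P : Subgroup GL2} (hP : ⁅P, P⁆ = P) (hne : P ≠ ⊥) :
    ∀ n (W : Subgroup GL2), Nat.card W ≤ n → Group.IsSolvable W → P ≤ normalizer (W : Set GL2) →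
      W ≤ center GL2 := by
  intro n
  induction n with
  | zero => intro W h; exact absurd (Nat.card_pos (α := W)) (by omega)
  | succ n ih =>
    intro W hle hs hn
    by_contra hWc
    have hlt : ⁅W, W⁆ ≠ W := fun h => hWc (by
      rw [eq_bot_of_perfect_solvable h le_rfl hs]; exact bot_le)
    have hsub : ⁅W, W⁆ ≤ W := commutator_le_self W
    have hcl : Nat.card (⁅W, W⁆ : Subgroup GL2) < Nat.card W := by
      refine lt_of_le_of_ne (Subgroup.card_le_of_le hsub) fun e => hlt (eq_of_le_of_card_ge hsub e.ge)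
    have hn' : P ≤ normalizer ((⁅W, W⁆ : Subgroup GL2) : Set GL2) := fun g hg => by
      refine Cfsg.Lib.Coprime.conjMap_eq_self_iff.1 ?_
      show (⁅W, W⁆ : Subgroup GL2).map _ = _
      rw [map_commutator, show W.map (MulAut.conj g).toMonoidHom = W from
        Cfsg.Lib.Coprime.conjMap_eq_self_iff.2 (hn hg)]
    have hc := ih _ (by omega) (Cfsg.Lib.Coprime.isSolvable_of_le hsub hs) hn'
    obtain ⟨w, hw, hwc⟩ := SetLike.not_le_iff_exists.1 hWc
    by_cases hab : ∀ x ∈ W, ∀ y ∈ W, x * y = y * x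
    · exact false_of_abelian hP hne hwc fun g hg => hab _ ((mem_normalizer_iff.1 (hn hg) w).1 hw) w hw
    push Not at hab
    obtain ⟨x, hx, y, hy, hxy⟩ := hab
    exact false_of_class_two hP hne hn hc hx hy hxy

/-- two perfect subgroups normalising each other with solvable commutator: one is trivial -/
theorem eq_bot_of_pair [Finite F] {P1 P2 : Subgroup GL2} (h1 : ⁅P1, P1⁆ = P1) (h2 : ⁅P2, P2⁆ = P2)
    (hn1 : P1 ≤ normalizer ((⁅P1, P2⁆ : Subgroup GL2) : Set GL2))
    (hs : Group.IsSolvable (⁅P1, P2⁆ : Subgroup GL2)) : P1 = ⊥ ∨ P2 = ⊥ := by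
  by_contra hno
  push Not at hno
  have hW := le_center_of_solvable h1 hno.1 _ _ le_rfl hs hn1
  have hz : ∀ K : Subgroup GL2, ⁅(⁅P1, P2⁆ : Subgroup GL2), K⁆ = ⊥ := fun K => by
    rw [commutator_eq_bot_iff_le_centralizer]
    exact hW.trans (center_le_centralizer _)
  have hc : ⁅P1, P2⁆ = ⊥ := by
    have h3 : ⁅⁅P1, P1⁆, P2⁆ = ⊥ :=
      commutator_commutator_eq_bot_of_rotate (hz P1) (by rw [commutator_comm P2 P1]; exact hz P1)
    rwa [h1] at h3
  obtain ⟨a, ha, b, hb, hab⟩ := exists_not_commute h1 hno.1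
  have hcen := commutator_eq_bot_iff_le_centralizer.1 hc
  exact false_of_scalar h2 hno.2 fun g hg => mem_center_of_scalar (scalar_of_commute_pair hab
    (mem_centralizer_iff.1 (hcen ha) g hg) (mem_centralizer_iff.1 (hcen hb) g hg)).choose_spec

end Cfsg.Lib.QTCComp
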