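import Cfsg.Agent.QTKE.Uniq.Main

/-!
The `𝒞`-components of a group correspond to the components of the quotient by the solvable radical.
-/

set_option autoImplicit false
set_option linter.unusedSectionVars false
set_option linter.style.haveILetI false

namespace Cfsg.Lib.QTCComp

open Subgroup Cfsg.Lib.Components
open Cfsg.Lib.CoprimeLayer (perfCore perfCore_le perfCore_perfect le_perfCore perfect_map
  exists_perfect_cover' normalizer_le_normalizer_perfCore eq_bot_of_perfect_solvable)
open Cfsg.Lib.QTUniq (RadFree MinPerf calC_iff isPerfect_subtype isSolvable_map)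
open scoped commutatorElement

universe u

variable {H : Type u} [Group H] [Finite H]

theorem calC_map {Z : Type u} [Group Z] [Finite Z] {L : Subgroup H} (h : L ∈ Cfsg.calC H) (f : H →* Z)
    (hf : Function.Surjective f) (hne : L.map f ≠ ⊥) : L.map f ∈ Cfsg.calC Z :=
  calC_iff.2 ⟨(calC_iff.1 h).1.map f hne, (calC_iff.1 h).2.map hf⟩

theorem calC_conj {L : Subgroup H} (h : L ∈ Cfsg.calC H) (g : H) :
    Cfsg.Lib.Coprime.conjMap g L ∈ Cfsg.calC H :=
  calC_map h _ (MulAut.conj g).surjective fun e =>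
    h.1 ((map_eq_bot_iff_of_injective L (MulAut.conj g).injective).1 e)

/-- a member of `calC` containing another one is equal to it -/
theorem eq_of_le {L K : Subgroup H} (hL : L ∈ Cfsg.calC H) (hK : K ∈ Cfsg.calC H) (h : L ≤ K) : L = K := by
  by_contra hne
  exact hK.2.2.2 L (lt_of_le_of_ne h hne) ⟨hL.1, hL.2.1, hL.2.2.1⟩

variable {R : Subgroup H} [R.Normal]

theorem map_component (hRs : Group.IsSolvable R) (hRf : RadFree (H ⧸ R)) {L : Subgroup H}
    (hL : L ∈ Cfsg.calC H) : Cfsg.IsComponent (L.map (QuotientGroup.mk' R)) := by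
  obtain ⟨hm, hsn⟩ := calC_iff.1 hL
  have hne : L.map (QuotientGroup.mk' R) ≠ ⊥ := fun h => hm.ne (by
    rw [Subgroup.map_eq_bot_iff, QuotientGroup.ker_mk'] at h
    exact eq_bot_of_perfect_solvable hm.perfect h hRs)
  exact (hm.map _ hne).isComponent hRf (hsn.map (QuotientGroup.mk'_surjective R))

/-- over each component of `H / R` lies the perfect core of its preimage, a member of `calC` -/
theorem perfCore_comap_mem (hRs : Group.IsSolvable R) (hRf : RadFree (H ⧸ R)) {S : Subgroup (H ⧸ R)}
    (hS : Cfsg.IsComponent S) : perfCore (S.comap (QuotientGroup.mk' R)) ∈ Cfsg.calC H ∧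
      (perfCore (S.comap (QuotientGroup.mk' R))).map (QuotientGroup.mk' R) = S := by
  classical
  set π := QuotientGroup.mk' R with hπ
  have hπs : Function.Surjective π := QuotientGroup.mk'_surjective R
  set X := S.comap π with hX
  set K := perfCore X with hK
  have hKsn : K.IsSubnormal := isSubnormal_of_normal_in (hS.1.comap π) (perfCore_le X)
    (le_normalizer.trans (normalizer_le_normalizer_perfCore X))
  have hKS : K.map π = S := by
    refine le_antisymm ((Subgroup.map_mono (perfCore_le X)).trans (map_comap_le _ _)) ?_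
    obtain ⟨Z, hZ, hZm, hZp⟩ := exists_perfect_cover' π (X0 := X)
      (by rw [hX, map_comap_eq_self_of_surjective hπs]) (comp_perfect hS)
    rw [← hZm]
    exact Subgroup.map_mono (le_perfCore hZ hZp)
  refine ⟨calC_iff.2 ⟨⟨fun h => comp_ne_bot hS (by rw [← hKS, h, Subgroup.map_bot]), perfCore_perfect X,
    fun A hA hAs hAp => ?_⟩, hKsn⟩, hKS⟩
  haveI := (hRf.comp_simple hS).1
  have hAsn : A.IsSubnormal := by
    have := isSubnormal_map_subtype hKsn hAs
    rwa [map_subgroupOf_eq_of_le hA] at this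
  rcases ((hAsn.map hπs).subgroupOf (K := S)).eq_bot_or_top_of_isSimpleGroup inferInstance with h | h
  · left
    have h1 : A.map π = ⊥ := by
      rw [← map_subgroupOf_eq_of_le (hKS ▸ Subgroup.map_mono hA : A.map π ≤ S), h, Subgroup.map_bot]
    rw [Subgroup.map_eq_bot_iff, hπ, QuotientGroup.ker_mk'] at h1
    exact eq_bot_of_perfect_solvable hAp h1 hRs
  · right
    by_contra hne
    obtain ⟨N, hN, hle, hNne⟩ := exists_proper_normal hAs
      (fun e => hne (le_antisymm hA (subgroupOf_eq_top.1 e)))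
    haveI := hN
    haveI : Group.IsPerfect K := isPerfect_subtype (perfCore_perfect X)
    haveI : Group.IsSolvable (R.subgroupOf K) :=
      Group.isSolvable_of_isSolvable_injective (f := (K.subtype.comp (R.subgroupOf K).subtype).codRestrict R
        fun x => x.2) (fun a b e => Subtype.ext (Subtype.ext (congrArg Subtype.val e :)))
    have htop : ∀ x : K ⧸ N, x ∈ (R.subgroupOf K).map (QuotientGroup.mk' N) := by
      intro x
      obtain ⟨⟨x, hx⟩, rfl⟩ := QuotientGroup.mk_surjective x
      obtain ⟨y, hy, e⟩ := (subgroupOf_eq_top.1 h) (hKS ▸ mem_map_of_mem π hx : π x ∈ S)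
      refine ⟨⟨y, hA hy⟩⁻¹ * ⟨x, hx⟩, ?_, ?_⟩
      · show y⁻¹ * x ∈ R
        rw [← QuotientGroup.eq_one_iff]
        show π (y⁻¹ * x) = 1
        rw [map_mul, map_inv, e, inv_mul_cancel]
      · rw [map_mul, map_inv, show (QuotientGroup.mk' N) ⟨y, hA hy⟩ = 1 from
          (QuotientGroup.eq_one_iff _).2 (hle hy), inv_one, one_mul]
        rfl
    haveI : Group.IsSolvable (K ⧸ N) := by
      haveI : Group.IsSolvable ((R.subgroupOf K).map (QuotientGroup.mk' N)) := isSolvable_map _ inferInstance
      exact Group.isSolvable_of_surjective (f := ((R.subgroupOf K).map (QuotientGroup.mk' N)).subtype)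
        fun x => ⟨⟨x, htop x⟩, rfl⟩
    exact hNne ((eq_top_iff' N).2 fun x => (QuotientGroup.eq_one_iff x).1
      (Cfsg.Lib.OutSol.perfect_hom_trivial (QuotientGroup.mk' N) x))

/-- two `𝒞`-components with the same image are equal -/
theorem eq_of_map_eq (hRs : Group.IsSolvable R) (hRf : RadFree (H ⧸ R)) {L M : Subgroup H}
    (hL : L ∈ Cfsg.calC H) (hM : M ∈ Cfsg.calC H)
    (h : L.map (QuotientGroup.mk' R) = M.map (QuotientGroup.mk' R)) : L = M := by
  obtain ⟨hK, -⟩ := perfCore_comap_mem hRs hRf (map_component hRs hRf hL)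
  rw [eq_of_le hL hK (le_perfCore (le_comap_map _ _) hL.2.1),
    eq_of_le hM hK (le_perfCore (h ▸ le_comap_map _ _) hM.2.1)]

theorem mem_normalizer_of_map (hRs : Group.IsSolvable R) (hRf : RadFree (H ⧸ R)) {L : Subgroup H}
    (hL : L ∈ Cfsg.calC H) {g : H}
    (hg : QuotientGroup.mk' R g ∈ normalizer (L.map (QuotientGroup.mk' R) : Set (H ⧸ R))) :
    g ∈ normalizer (L : Set H) := by
  rw [← Cfsg.Lib.Coprime.conjMap_eq_self_iff]
  refine eq_of_map_eq hRs hRf (calC_conj hL g) hL ?_
  refine Eq.trans ?_ (Cfsg.Lib.Coprime.conjMap_eq_self_iff.2 hg)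
  rw [Cfsg.Lib.Coprime.conjMap, Cfsg.Lib.Coprime.conjMap, Subgroup.map_map, Subgroup.map_map]
  congr 1

/-- distinct `𝒞`-components normalise each other and commute modulo the radical -/
theorem commutator_le_rad (hRs : Group.IsSolvable R) (hRf : RadFree (H ⧸ R)) {L M : Subgroup H}
    (hL : L ∈ Cfsg.calC H) (hM : M ∈ Cfsg.calC H) (hne : L ≠ M) :
    M ≤ normalizer (L : Set H) ∧ ⁅L, M⁆ ≤ R := by
  have h1 := comp_commute (map_component hRs hRf hL) (map_component hRs hRf hM)
    (fun e => hne (eq_of_map_eq hRs hRf hL hM e))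
  refine ⟨fun x hx => mem_normalizer_of_map hRs hRf hL ?_, ?_⟩
  · rw [commutator_comm] at h1
    exact (commutator_eq_bot_iff_le_centralizer.1 h1).trans (centralizer_le_normalizer _) (mem_map_of_mem _ hx)
  · rwa [← map_commutator, Subgroup.map_eq_bot_iff, QuotientGroup.ker_mk'] at h1

end Cfsg.Lib.QTCComp
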