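import Cfsg.Agent.QTKE.CComp.NonNormal

/-!
The structure of the `𝒞`-components of a member of `ℋ`, given the two facts on known simple groups.
-/

set_option autoImplicit false
set_option linter.unusedSectionVars false
set_option linter.style.haveILetI false

namespace Cfsg.Lib.QTCComp

open scoped commutatorElement

universe u

theorem structure_theorem {G : Type u} [Group G] [Finite G] [IsSimpleGroup G] (hG : ¬ IsMulCommutative G)
    (hQ : Cfsg.IsQTKE G)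
    (hOutK : ∀ (X : Type u) [Group X] [Finite X] [IsSimpleGroup X], ¬ IsMulCommutative X →
      Cfsg.IsKnownSimple' X → ¬ Cfsg.Spor.IsoB X → ¬ Cfsg.Spor.IsoM X → Group.IsSolvable (Cfsg.Out X))
    (hList : ∀ (X : Type u) [Group X] [Finite X] [IsSimpleGroup X], ¬ IsMulCommutative X →
      Cfsg.IsKnownSimple' X → (∀ p : ℕ, p.Prime → p ≠ 2 → ∀ P : Sylow p X, IsCyclic P) → InList X)
    (H : Subgroup G) (hH : H ∈ Cfsg.calH G) :
    sSup (Cfsg.calC ↥H) = Cfsg.perfectCore ↥H ∧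
    (∀ L₁ ∈ Cfsg.calC ↥H, ∀ L₂ ∈ Cfsg.calC ↥H, L₁ ≠ L₂ →
        ⁅L₁, L₂⁆ ≤ (Cfsg.pCore 2 ↥L₁).map L₁.subtype ⊓ (Cfsg.pCore 2 ↥L₂).map L₂.subtype ∧
        (Cfsg.pCore 2 ↥L₁).map L₁.subtype ⊓ (Cfsg.pCore 2 ↥L₂).map L₂.subtype ≤ Cfsg.pCore 2 ↥H) ∧
    (∀ L ∈ Cfsg.calC ↥H, L.Normal ∨
        ((Subgroup.normalizer (L : Set ↥H)).index = 2 ∧ InList (↥L ⧸ Cfsg.pCore 2 ↥L))) := by
  refine ⟨sSup_calC_eq hG hQ hOutK hH, fun L₁ h₁ L₂ h₂ hne => commutator_le_inf hQ hH h₁ h₂ hne, fun L hL => ?_⟩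
  by_cases hn : L.Normal
  · exact Or.inl hn
  · exact Or.inr (non_normal hG hQ hList hH hL hn)

end Cfsg.Lib.QTCComp
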