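import Cfsg.Agent.QTKE.CComp.Pair

/-!
A `𝒞`-component which is not normal has two conjugates and is modulo `O₂` one of the groups with cyclic odd
Sylow subgroups.
-/

set_option autoImplicit false
set_option linter.unusedSectionVars false
set_option linter.style.haveILetI false

namespace Cfsg.Lib.QTCComp

open Subgroup Cfsg.Lib.Components
open Cfsg.Lib.CoprimeLayer (eq_bot_of_perfect_solvable perfect_map)
open Cfsg.Lib.QTUniq (RadFree MinPerf calC_iff exists_radical isPerfect_subtype isSolvable_map)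
open scoped commutatorElement

universe u

/-- the list of known simple groups with cyclic odd Sylow subgroups, for the group `X` -/
def InList (X : Type u) [Group X] : Prop :=
  (∃ (F : Type) (_ : Field F) (_ : Fintype F), CharP F 2 ∧
      Nonempty (X ≃* Matrix.ProjectiveSpecialLinearGroup (Fin 2) F)) ∨
    Cfsg.Lie.IsoSuzuki X ∨
    (∃ (F : Type) (_ : Field F) (_ : Fintype F), (Fintype.card F).Prime ∧ Fintype.card F ≠ 2 ∧
      Nonempty (X ≃* Matrix.ProjectiveSpecialLinearGroup (Fin 2) F)) ∨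
    Cfsg.Spor.IsoJ1 X

theorem InList.of_equiv {X X' : Type u} [Group X] [Group X'] (e : X' ≃* X) (h : InList X) : InList X' := by
  rcases h with ⟨F, i1, i2, hc, ⟨f⟩⟩ | ⟨F, i1, i2, m, hm, hF, ⟨f⟩⟩ | ⟨F, i1, i2, hp, hne, ⟨f⟩⟩ | h
  · exact Or.inl ⟨F, i1, i2, hc, ⟨e.trans f⟩⟩
  · exact Or.inr (Or.inl ⟨F, i1, i2, m, hm, hF, ⟨e.trans f⟩⟩)
  · exact Or.inr (Or.inr (Or.inl ⟨F, i1, i2, hp, hne, ⟨e.trans f⟩⟩))
  · obtain ⟨f⟩ : Nonempty (X ≃* Cfsg.Spor.J1) := h
    exact Or.inr (Or.inr (Or.inr ⟨e.trans f⟩))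

variable {G : Type u} [Group G] [Finite G] [IsSimpleGroup G]

/-- part (3) -/
theorem non_normal (hG : ¬ IsMulCommutative G) (hQ : Cfsg.IsQTKE G)
    (hList : ∀ (X : Type u) [Group X] [Finite X] [IsSimpleGroup X], ¬ IsMulCommutative X →
      Cfsg.IsKnownSimple' X → (∀ p : ℕ, p.Prime → p ≠ 2 → ∀ P : Sylow p X, IsCyclic P) → InList X)
    {H : Subgroup G} (hH : Cfsg.pCore 2 ↥H ≠ ⊥) {L : Subgroup ↥H} (hL : L ∈ Cfsg.calC ↥H) (hn : ¬ L.Normal) :
    (normalizer (L : Set ↥H)).index = 2 ∧ InList (↥L ⧸ Cfsg.pCore 2 ↥L) := by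
  classical
  haveI : Fact (Nat.Prime 2) := ⟨Nat.prime_two⟩
  obtain ⟨R, hRn, hRs, hRf⟩ := exists_radical ↥H
  haveI := hRn
  set N := normalizer (L : Set ↥H) with hN
  obtain ⟨g0, hg0⟩ : ∃ g0, g0 ∉ N := by
    by_contra hno
    push Not at hno
    exact hn (normalizer_eq_top_iff.1 ((eq_top_iff' _).2 hno))
  -- at most two conjugates
  have hmapC : ∀ g : ↥H, (Cfsg.Lib.Coprime.conjMap g L).map (QuotientGroup.mk' R) =
      (L.map (QuotientGroup.mk' R)).map (MulAut.conj (QuotientGroup.mk' R g)).toMonoidHom := fun g => by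
    rw [Cfsg.Lib.Coprime.conjMap, Subgroup.map_map, Subgroup.map_map]
    congr 1
  have htwo : ∀ g g' : ↥H, g ∉ N → g' ∉ N → g⁻¹ * g' ∈ N := by
    intro g g' hg hg'
    obtain ⟨i, j, hij, he⟩ := orbit_le_two hQ hH R hRf _ (map_component hRs hRf hL)
      (fun i => QuotientGroup.mk' R (![1, g, g'] i))
    rw [← hmapC, ← hmapC] at he
    have he := eq_of_map_eq hRs hRf (calC_conj hL _) (calC_conj hL _) he
    rw [hN, ← Cfsg.Lib.Coprime.conjMap_eq_self_iff] at hg hg' ⊢
    have h1 : Cfsg.Lib.Coprime.conjMap (1 : ↥H) L = L := Cfsg.Lib.Coprime.conjMap_one _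
    have key : Cfsg.Lib.Coprime.conjMap g L = Cfsg.Lib.Coprime.conjMap g' L := by
      fin_cases i <;> fin_cases j <;> first | exact absurd rfl hij | skip
      · exact absurd (he.symm.trans h1) hg
      · exact absurd (he.symm.trans h1) hg'
      · exact absurd (he.trans h1) hg
      · exact he
      · exact absurd (he.trans h1) hg'
      · exact he.symm
    rw [← Cfsg.Lib.Coprime.conjMap_mul, ← key, Cfsg.Lib.Coprime.conjMap_inv_conjMap]
  refine ⟨?_, ?_⟩
  · rw [index, Nat.card_eq_two_iff]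
    refine ⟨((1 : ↥H) : ↥H ⧸ N), (g0 : ↥H ⧸ N), fun e => hg0 ?_, ?_⟩
    · simpa using QuotientGroup.eq.1 e
    · refine Set.eq_univ_of_forall fun x => ?_
      obtain ⟨y, rfl⟩ := QuotientGroup.mk_surjective x
      by_cases hy : y ∈ N
      · exact Or.inl (QuotientGroup.eq.2 (by simpa using hy))
      · exact Or.inr (Set.mem_singleton_iff.2 (QuotientGroup.eq.2 (htwo y g0 hy hg0)))
  -- pass to `H / O₂(H)`
  obtain ⟨hO, hrk⟩ := quotient_facts hQ hH
  set Q := Cfsg.pCore 2 ↥H with hQdef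
  set π := QuotientGroup.mk' Q with hπ
  have hπs : Function.Surjective π := QuotientGroup.mk'_surjective Q
  have hne : L ≠ Cfsg.Lib.Coprime.conjMap g0 L := fun e => hg0 (Cfsg.Lib.Coprime.conjMap_eq_self_iff.1 e.symm)
  set M := L.map π with hMdef
  have hMconj : (Cfsg.Lib.Coprime.conjMap g0 L).map π = Cfsg.Lib.Coprime.conjMap (π g0) M := by
    rw [hMdef, Cfsg.Lib.Coprime.conjMap, Cfsg.Lib.Coprime.conjMap, Subgroup.map_map, Subgroup.map_map]
    congr 1
  have hMne : M ≠ ⊥ := fun h => hL.1 (by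
    rw [hMdef, Subgroup.map_eq_bot_iff, hπ, QuotientGroup.ker_mk'] at h
    haveI := (isPGroup_pCore (G := ↥H) 2).isNilpotent
    exact eq_bot_of_perfect_solvable hL.2.1 h inferInstance)
  have hMm : MinPerf M := (calC_iff.1 hL).1.map π hMne
  have hMsn : M.IsSubnormal := hL.2.2.1.map hπs
  have hcomm : ⁅M, Cfsg.Lib.Coprime.conjMap (π g0) M⁆ = ⊥ := by
    rw [← hMconj, hMdef, ← map_commutator, Subgroup.map_eq_bot_iff, hπ, QuotientGroup.ker_mk']
    exact commutator_le_pCore hQ hH hL (calC_conj hL g0) hne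
  have hF : M ≤ centralizer (Cfsg.fittingSubgroup (↥H ⧸ Q) : Set (↥H ⧸ Q)) := by
    rw [le_centralizer_iff, fitting_eq_iSup_pCore]
    refine iSup_le fun r => ?_
    rw [le_centralizer_iff]
    have hn' : M ≤ normalizer ((⁅M, Cfsg.Lib.Coprime.conjMap (π g0) M⁆ : Subgroup (↥H ⧸ Q)) : Set (↥H ⧸ Q)) := by
      rw [hcomm, normalizer_eq_top]
      exact le_top
    rcases centralizes_pCore_or hrk hO hMm.perfect (perfect_map _ hMm.perfect) hn'
      (by rw [hcomm]; infer_instance) r.2 with h | h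
    · exact h
    · intro x hx
      refine mem_centralizer_iff.2 fun y hy => ?_
      have hy' : MulAut.conj (π g0) y ∈ Cfsg.pCore r.1 (↥H ⧸ Q) := (inferInstance : (Cfsg.pCore r.1 (↥H ⧸ Q)).Normal).conj_mem y hy _
      have h1 := mem_centralizer_iff.1 (h (mem_map_of_mem _ hx)) _ hy'
      refine (MulAut.conj (π g0)).injective ?_
      rw [map_mul, map_mul]
      exact h1
  haveI hsimple : IsSimpleGroup M :=
    isSimpleGroup_of_conj hrk hO (isQuasisimple_of_centralizes hMm hMsn hF) hMsn hMm.perfect (π g0) hcomm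
  have hna : ¬ IsMulCommutative M := fun h => hMm.not_solvable (Group.isSolvable_of_comm fun a b => h.is_comm.comm a b)
  set f := π.subgroupMap L with hf
  have hfs : Function.Surjective f := π.subgroupMap_surjective L
  have hHtop : H ≠ ⊤ := by
    obtain ⟨K, hK, hHK⟩ := Cfsg.Lib.QTUniq.exists_twoLocal_ge hH
    exact fun e => Cfsg.Lib.QTUniq.twoLocal_ne_top hG hK (top_le_iff.1 (e ▸ hHK))
  have hlist : InList M := hList M hna
    (Cfsg.Lib.KSections.known_of_surjective hQ.2.1 hHtop hsimple hna L f hfs) fun p hp hp2 P => by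
    haveI := Fact.mk hp
    exact isCyclic_sylow_of_conj hp2 (hrk p hp hp2) hMm.perfect (π g0) hcomm P
  have hker : f.ker = Cfsg.pCore 2 ↥L := by
    refine le_antisymm ?_ fun x hx => ?_
    · refine le_pCore ?_
      refine IsPGroup.to_le ((isPGroup_pCore (G := ↥H) 2).comap_subtype (K := L)) fun x hx => ?_
      have h1 : π (x : ↥H) = 1 := congrArg Subtype.val (MonoidHom.mem_ker.1 hx)
      exact mem_subgroupOf.2 ((QuotientGroup.eq_one_iff (x : ↥H)).1 h1)
    · have h1 : (Cfsg.pCore 2 ↥L).map L.subtype ≤ Q := le_pCore_of_subnormal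
        (isSubnormal_map_subtype hL.2.2.1 (inferInstance : (Cfsg.pCore 2 ↥L).Normal).isSubnormal)
        ((isPGroup_pCore 2).map _)
      exact MonoidHom.mem_ker.2 (Subtype.ext ((QuotientGroup.eq_one_iff (x : ↥H)).2 (h1 (mem_map_of_mem _ hx))))
  exact hlist.of_equiv
    ((QuotientGroup.quotientMulEquivOfEq hker.symm).trans (QuotientGroup.quotientKerEquivOfSurjective f hfs))

end Cfsg.Lib.QTCComp
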