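import Cfsg.Agent.QTKE.CComp.Parts
import Cfsg.Agent.GaschutzYen.Omega
import Cfsg.Agent.S0102

/-!
A component commuting with a conjugate of itself, in a group of odd ranks at most two with `O₂ = 1`, is simple
with cyclic Sylow subgroups of odd order.
-/

set_option autoImplicit false
set_option linter.unusedSectionVars false
set_option linter.style.haveILetI false

namespace Cfsg.Lib.QTCComp

open Subgroup Cfsg.Lib.Components
open Cfsg.Lib.CoprimeLayer (eq_bot_of_perfect_solvable perfect_map)
open Cfsg.Lib.QTUniq (MinPerf isPerfect_subtype isSolvable_map)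
open scoped commutatorElement

universe u

variable {Y : Type u} [Group Y] [Finite Y]

/-- a minimal perfect subnormal subgroup centralising the Fitting subgroup is quasisimple -/
theorem isQuasisimple_of_centralizes {M : Subgroup Y} (hm : MinPerf M) (hsn : M.IsSubnormal)
    (hF : M ≤ centralizer (Cfsg.fittingSubgroup Y : Set Y)) : Cfsg.IsQuasisimple M := by
  have key : ∀ n (N : Subgroup Y), Nat.card N ≤ n → N ≤ M → M ≤ normalizer (N : Set Y) → Group.IsSolvable N →
      M ≤ centralizer (N : Set Y) := by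
    intro n
    induction n with
    | zero => intro N h; exact absurd (Nat.card_pos (α := N)) (by omega)
    | succ n ih =>
      intro N hle hNM hn hs
      by_cases hN : ⁅N, N⁆ = N
      · rw [eq_bot_of_perfect_solvable hN le_rfl hs]
        exact fun x _ => mem_centralizer_iff.2 fun y hy => by rw [mem_bot.1 hy, one_mul, mul_one]
      have hsub : ⁅N, N⁆ ≤ N := commutator_le_self N
      have hlt : Nat.card (⁅N, N⁆ : Subgroup Y) < Nat.card N :=
        lt_of_le_of_ne (Subgroup.card_le_of_le hsub) fun e => hN (eq_of_le_of_card_ge hsub e.ge)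
      have hn' : M ≤ normalizer ((⁅N, N⁆ : Subgroup Y) : Set Y) := fun g hg => by
        refine Cfsg.Lib.Coprime.conjMap_eq_self_iff.1 ?_
        show (⁅N, N⁆ : Subgroup Y).map _ = _
        rw [map_commutator, show N.map (MulAut.conj g).toMonoidHom = N from
          Cfsg.Lib.Coprime.conjMap_eq_self_iff.2 (hn hg)]
      have hc := ih _ (by omega) (hsub.trans hNM) hn' (Cfsg.Lib.Coprime.isSolvable_of_le hsub hs)
      have hnil : Group.IsNilpotent N := class_two_nilpotent
        (commutator_eq_bot_iff_le_centralizer.2 (le_centralizer_iff.1 (hNM.trans hc)))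
      refine hF.trans (centralizer_le ?_)
      exact le_fitting_of_subnormal (isSubnormal_of_normal_in hsn hNM hn) hnil
  haveI : Nontrivial M := (Subgroup.nontrivial_iff_ne_bot M).mpr hm.ne
  refine isQuasisimple_of_perfect_of_subnormal inferInstance (isPerfect_subtype hm.perfect).1 fun N hN hne => ?_
  haveI := hN
  have hs : Group.IsSolvable (N.map M.subtype) := by
    refine hm.solvable_of_ne (map_subtype_le _) ?_ fun e => hne ?_
    · rw [subgroupOf, comap_map_eq_self_of_injective M.subtype_injective]; exact hN.isSubnormal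
    · apply Subgroup.map_injective M.subtype_injective
      rw [e, ← MonoidHom.range_eq_map, range_subtype]
  have hn : M ≤ normalizer ((N.map M.subtype : Subgroup Y) : Set Y) := fun g hg =>
    le_normalizer_map M.subtype ⟨⟨g, hg⟩, (normalizer_eq_top N).symm ▸ mem_top _, rfl⟩
  have hc := key _ _ le_rfl (map_subtype_le N) hn hs
  intro x hx
  refine mem_center_iff.2 fun y => Subtype.ext ?_
  exact (mem_centralizer_iff.1 (hc y.2) x (mem_map_of_mem M.subtype hx)).symm

/-- the odd Sylow subgroups of such a subgroup are cyclic -/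
theorem isCyclic_sylow_of_conj {r : ℕ} [Fact r.Prime] (hr2 : r ≠ 2) (hrk : Cfsg.PRankLE r 2 Y) {M : Subgroup Y}
    (hM : ⁅M, M⁆ = M) (g : Y) (hc : ⁅M, Cfsg.Lib.Coprime.conjMap g M⁆ = ⊥) (P : Sylow r M) :
    IsCyclic (P : Subgroup M) := by
  classical
  have hr : r.Prime := Fact.out
  by_contra hnc
  obtain ⟨A0, -, hA0, hA0c⟩ := Cfsg.Lib.SolvStruct.exists_normal_elementary_sq hr2 P.2 hnc
  set A := (A0.map (P : Subgroup M).subtype).map M.subtype with hA
  have hAM : A ≤ M := map_subtype_le _
  have hAc : Nat.card A = r ^ 2 := by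
    rw [hA, card_map_of_injective M.subtype_injective, card_map_of_injective (P : Subgroup M).subtype_injective,
      hA0c]
  have hAab : ∀ a ∈ A, ∀ b ∈ A, a * b = b * a := by
    rintro _ ⟨_, ⟨a, ha, rfl⟩, rfl⟩ _ ⟨_, ⟨b, hb, rfl⟩, rfl⟩
    exact congrArg (fun z : A0 => ((z.1.1 : M) : Y)) (hA0.1.is_comm.comm ⟨a, ha⟩ ⟨b, hb⟩)
  have hAe : ∀ a ∈ A, a ^ r = 1 := by
    rintro _ ⟨_, ⟨a, ha, rfl⟩, rfl⟩
    rw [← map_pow, ← map_pow, hA0.2 a ha, map_one, map_one]
  have hMcom : ∀ a ∈ M, ∀ b ∈ Cfsg.Lib.Coprime.conjMap g M, a * b = b * a := fun a ha b hb =>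
    (mem_centralizer_iff.1 (commutator_eq_bot_iff_le_centralizer.1 hc ha) b hb).symm
  have hrT : Cfsg.PRankLE r 2 (⊤ : Subgroup Y) :=
    Cfsg.Lib.OddP.pRankLE_of_injective (⊤ : Subgroup Y).subtype (Subgroup.subtype_injective _) hrk
  have hconj : Cfsg.Lib.Coprime.conjMap g A = A := by
    refine eq_of_le_of_card_ge (fun y hy => ?_) (card_map_of_injective (MulAut.conj g).injective).ge
    by_contra hyA
    obtain ⟨a, ha, rfl⟩ := hy
    exact Cfsg.Lib.QTSolUniq.false_of_three hrT le_top hAab hAe hAc.ge (mem_top _)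
      (by rw [← map_pow, hAe a ha, map_one]) hyA fun b hb => hMcom b (hAM hb) _ (mem_map_of_mem _ (hAM ha))
  have hcent : ∀ a ∈ A, ∀ m ∈ M, m * a = a * m := fun a ha m hm =>
    hMcom m hm a (Cfsg.Lib.Coprime.conjMap_mono hAM (hconj.ge ha))
  have hord : ∀ x ∈ M, x ^ r = 1 → x ∈ A := fun x hx hxr => by
    by_contra hxA
    exact Cfsg.Lib.QTSolUniq.false_of_three hrT le_top hAab hAe hAc.ge (mem_top x) hxr hxA
      fun b hb => (hcent b hb x hx).symm
  obtain ⟨N, hN, hcompl⟩ := (Cfsg.Agent.S0071.result P).2 fun Q hQ x hx hxr => by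
    refine (Cfsg.Lib.GaschutzYen.le_centralizer_of_omega hr2 (R := zpowers x) (Nat.card Q) rfl (P.2.to_le hQ)
      (zpowers_le.2 hx) (by rwa [Nat.card_zpowers]) fun q _ hqr s _ => Subtype.ext ?_) (mem_zpowers x)
    exact hcent q (hord q q.2 (congrArg Subtype.val hqr)) s s.2
  haveI := hN
  haveI : Group.IsPerfect M := isPerfect_subtype hM
  have hq : IsPGroup r (M ⧸ N) := by
    obtain ⟨k, hk⟩ := P.2.exists_card_eq
    exact IsPGroup.of_card (n := k) (by rw [← index_eq_card, hcompl.symm.index_eq_card, hk])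
  haveI := hq.isNilpotent
  have htop : N = ⊤ := (eq_top_iff' N).2 fun x =>
    (QuotientGroup.eq_one_iff x).1 (Cfsg.Lib.OutSol.perfect_hom_trivial (QuotientGroup.mk' N) x)
  subst htop
  have hbot : (P : Subgroup M) = ⊥ := isComplement'_top_left.1 hcompl
  refine hnc ?_
  rw [hbot]
  infer_instance

/-- such a quasisimple subnormal subgroup is simple -/
theorem isSimpleGroup_of_conj (hrk : ∀ r : ℕ, r.Prime → r ≠ 2 → Cfsg.PRankLE r 2 Y) (hO : Cfsg.pCore 2 Y = ⊥)
    {M : Subgroup Y} (hq : Cfsg.IsQuasisimple M) (hsn : M.IsSubnormal) (hM : ⁅M, M⁆ = M) (g : Y)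
    (hc : ⁅M, Cfsg.Lib.Coprime.conjMap g M⁆ = ⊥) : IsSimpleGroup M := by
  classical
  haveI : Fact (Nat.Prime 2) := ⟨Nat.prime_two⟩
  haveI : Group.IsPerfect M := isPerfect_subtype hM
  have htopM : _root_.commutator M = ⊤ := (isPerfect_subtype hM).1
  set Z := center M with hZ
  set q := QuotientGroup.mk' Z with hq'
  have hZ2 : IsPGroup 2 Z := by
    refine IsPGroup.of_card (n := (Nat.card Z).primeFactorsList.length)
      (Nat.eq_prime_pow_of_unique_prime_dvd Nat.card_pos.ne' fun {d} hd hdvd => ?_)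
    by_contra hd2
    haveI := Fact.mk hd
    refine Cfsg.Agent.S0102.result (G := M ⧸ Z) ?_ (p := d) ?_ q (QuotientGroup.mk'_surjective Z) ?_ htopM ?_
    · rw [_root_.commutator_def, ← Subgroup.map_top_of_surjective q (QuotientGroup.mk'_surjective Z),
        ← map_commutator, ← _root_.commutator_def, htopM]
    · intro S
      obtain ⟨P, rfl⟩ := Sylow.mapSurjective_surjective (QuotientGroup.mk'_surjective Z) d S
      haveI := isCyclic_sylow_of_conj hd2 (hrk d hd hd2) hM g hc P
      rw [Sylow.coe_mapSurjective]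
      exact isCyclic_of_surjective (q.subgroupMap (P : Subgroup M)) (MonoidHom.subgroupMap_surjective _ _)
    · rw [hq', QuotientGroup.ker_mk']
    · rw [hq', QuotientGroup.ker_mk']
      exact hdvd
  have hZ1 : Z = ⊥ := by
    refine (map_eq_bot_iff_of_injective Z M.subtype_injective).1 (le_bot_iff.1 ?_)
    rw [← hO]
    exact le_pCore_of_subnormal (isSubnormal_map_subtype hsn (inferInstance : (center M).Normal).isSubnormal)
      (hZ2.map _)
  haveI := qs_nontrivial hq
  refine ⟨fun N hN => ?_⟩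
  rcases qs_subnormal_eq_top_or_le_center hq hN.isSubnormal with h | h
  · exact Or.inr h
  · exact Or.inl (le_bot_iff.1 (hZ1 ▸ h))

end Cfsg.Lib.QTCComp
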