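import Cfsg.Agent.QTKE.CComp.Lift
import Cfsg.Agent.QTKE.CComp.Act
import Cfsg.Agent.QTKE.SolUniq.Main

/-!
The `𝒞`-components of a member of `ℋ` generate its perfect core and commute modulo `O₂`.
-/

set_option autoImplicit false
set_option linter.unusedSectionVars false
set_option linter.style.haveILetI false

namespace Cfsg.Lib.QTCComp

open Subgroup Cfsg.Lib.Components
open Cfsg.Lib.CoprimeLayer (eq_bot_of_perfect_solvable perfect_map)
open Cfsg.Lib.QTUniq (RadFree MinPerf calC_iff exists_radical isPerfect_subtype isSolvable_map)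
open scoped commutatorElement

universe u

/-- a perfect subgroup fixes all components when these have at most two conjugates -/
theorem perfect_fixes_components {Y : Type u} [Group Y] [Finite Y]
    (horb : ∀ S : Subgroup Y, Cfsg.IsComponent S → ∀ g : Fin 3 → Y,
      ∃ i j, i ≠ j ∧ S.map (MulAut.conj (g i)).toMonoidHom = S.map (MulAut.conj (g j)).toMonoidHom)
    {P : Subgroup Y} (hP : ⁅P, P⁆ = P) {S : Subgroup Y} (hS : Cfsg.IsComponent S) :
    P ≤ normalizer (S : Set Y) := by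
  classical
  haveI : Group.IsPerfect P := isPerfect_subtype hP
  let Ω := {K : Subgroup Y // ∃ g : Y, K = S.map (MulAut.conj g).toMonoidHom}
  have hΩ : Nat.card Ω ≤ 4 := by
    by_contra hgt
    have h3 : Nat.card (Fin 3) ≤ Nat.card Ω := by simp; omega
    haveI : Fintype Ω := Fintype.ofFinite Ω
    obtain ⟨f⟩ : Nonempty (Fin 3 ↪ Ω) := Function.Embedding.nonempty_of_card_le (by
      rwa [Nat.card_eq_fintype_card, Nat.card_eq_fintype_card] at h3)
    choose g hg using fun i => (f i).2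
    obtain ⟨i, j, hij, he⟩ := horb S hS g
    exact hij (f.injective (Subtype.ext (by rw [hg i, hg j, he])))
  let act : P →* Equiv.Perm Ω :=
    MonoidHom.mk' (fun l =>
      { toFun := fun K => ⟨K.1.map (MulAut.conj (l : Y)).toMonoidHom, by
          obtain ⟨g, hg⟩ := K.2
          exact ⟨l * g, by rw [hg, ← Cfsg.Lib.Coprime.conjMap, ← Cfsg.Lib.Coprime.conjMap,
            Cfsg.Lib.Coprime.conjMap_mul]⟩⟩
        invFun := fun K => ⟨K.1.map (MulAut.conj (l : Y)⁻¹).toMonoidHom, by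
          obtain ⟨g, hg⟩ := K.2
          exact ⟨(l : Y)⁻¹ * g, by rw [hg, ← Cfsg.Lib.Coprime.conjMap, ← Cfsg.Lib.Coprime.conjMap,
            Cfsg.Lib.Coprime.conjMap_mul]⟩⟩
        left_inv := fun K => Subtype.ext (Cfsg.Lib.Coprime.conjMap_inv_conjMap _ _)
        right_inv := fun K => Subtype.ext (Cfsg.Lib.Coprime.conjMap_conjMap_inv _ _) })
      fun a b => Equiv.ext fun K => Subtype.ext (Cfsg.Lib.Coprime.conjMap_mul (a : Y) (b : Y) K.1).symm
  intro l hl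
  have h1 := Cfsg.Lib.OutSol.perfect_perm_trivial hΩ act ⟨l, hl⟩
  rw [← Cfsg.Lib.Coprime.conjMap_eq_self_iff]
  exact congrArg Subtype.val (Equiv.ext_iff.1 h1 ⟨S, 1, by ext x; simp⟩)

theorem perfectCore_perfect (H : Type u) [Group H] :
    ⁅Cfsg.perfectCore H, Cfsg.perfectCore H⁆ = Cfsg.perfectCore H := by
  refine le_antisymm (commutator_le_self _) (sSup_le fun P (hP : ⁅P, P⁆ = P) => ?_)
  have h : P ≤ Cfsg.perfectCore H := le_sSup (show P ∈ {L : Subgroup H | ⁅L, L⁆ = L} from hP)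
  calc P = ⁅P, P⁆ := hP.symm
    _ ≤ _ := commutator_mono h h

theorem sSup_calC_normal {H : Type u} [Group H] [Finite H] : (sSup (Cfsg.calC H)).Normal := by
  refine ⟨fun x hx g => ?_⟩
  have h : (sSup (Cfsg.calC H)).map (MulAut.conj g).toMonoidHom ≤ sSup (Cfsg.calC H) := by
    rw [sSup_eq_iSup, Subgroup.map_iSup]
    refine iSup_le fun L => ?_
    rw [Subgroup.map_iSup]
    exact iSup_le fun hL => le_iSup₂_of_le _ (calC_conj hL g) le_rfl
  exact h ⟨x, hx, rfl⟩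

variable {G : Type u} [Group G] [Finite G] [IsSimpleGroup G]

theorem orbit_le_two (hQ : Cfsg.IsQTKE G) {H : Subgroup G} (hH : Cfsg.pCore 2 ↥H ≠ ⊥) (R : Subgroup ↥H)
    [R.Normal] (hR : RadFree (↥H ⧸ R)) (S : Subgroup (↥H ⧸ R)) (hS : Cfsg.IsComponent S)
    (g : Fin 3 → ↥H ⧸ R) :
    ∃ i j, i ≠ j ∧ S.map (MulAut.conj (g i)).toMonoidHom = S.map (MulAut.conj (g j)).toMonoidHom := by
  by_contra hno
  push Not at hno
  exact Cfsg.Lib.QTUniq.no_three_components (Cfsg.Lib.QTUniq.rank_le (hQT := hQ.1) hH) (QuotientGroup.mk' R)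
    (QuotientGroup.mk'_surjective R) hR hS g hno

/-- part (1): the `𝒞`-components generate the perfect core -/
theorem sSup_calC_eq (hG : ¬ IsMulCommutative G) (hQ : Cfsg.IsQTKE G)
    (hOutK : ∀ (X : Type u) [Group X] [Finite X] [IsSimpleGroup X], ¬ IsMulCommutative X →
      Cfsg.IsKnownSimple' X → ¬ Cfsg.Spor.IsoB X → ¬ Cfsg.Spor.IsoM X → Group.IsSolvable (Cfsg.Out X))
    {H : Subgroup G}
    (hH : Cfsg.pCore 2 ↥H ≠ ⊥) : sSup (Cfsg.calC ↥H) = Cfsg.perfectCore ↥H := by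
  classical
  refine le_antisymm (sSup_le fun L hL => le_sSup hL.2.1) ?_
  obtain ⟨R, hRn, hRs, hRf⟩ := exists_radical ↥H
  haveI := hRn
  set P := Cfsg.perfectCore ↥H with hP
  set K0 := sSup (Cfsg.calC ↥H) with hK0
  haveI : K0.Normal := sSup_calC_normal
  have hPp : ⁅P, P⁆ = P := perfectCore_perfect ↥H
  set π := QuotientGroup.mk' R with hπ
  have hOut : ∀ S : Subgroup (↥H ⧸ R), Cfsg.IsComponent S → Group.IsSolvable (Cfsg.Out S) := fun S hS =>
    Cfsg.Lib.QTUniq.out_solvable hG hQ hOutK hH R S hRf hS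
  have h1 : P.map π ≤ K0.map π := by
    refine (Cfsg.Lib.QTUniq.le_layer_of_fixes hRf hOut (perfect_map π hPp) fun S hS =>
      perfect_fixes_components (orbit_le_two hQ hH R hRf) (perfect_map π hPp) hS).trans ?_
    refine sSup_le fun S hS => ?_
    obtain ⟨hm, he⟩ := perfCore_comap_mem hRs hRf hS
    rw [← he]
    exact Subgroup.map_mono (le_sSup hm)
  rw [Subgroup.map_le_map_iff, hπ, QuotientGroup.ker_mk'] at h1
  have h2 : P.map (QuotientGroup.mk' K0) = ⊥ := by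
    refine eq_bot_of_perfect_solvable (perfect_map _ hPp) (?_ : _ ≤ R.map (QuotientGroup.mk' K0))
      (isSolvable_map _ hRs)
    refine (Subgroup.map_mono h1).trans ?_
    rw [Subgroup.map_sup, QuotientGroup.map_mk'_self, bot_sup_eq]
  rwa [Subgroup.map_eq_bot_iff, QuotientGroup.ker_mk'] at h2

/-- in `H / O₂(H)`: `O₂` is trivial and the odd ranks are at most two -/
theorem quotient_facts (hQ : Cfsg.IsQTKE G) {H : Subgroup G} (hH : Cfsg.pCore 2 ↥H ≠ ⊥) :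
    Cfsg.pCore 2 (↥H ⧸ Cfsg.pCore 2 ↥H) = ⊥ ∧
      ∀ r : ℕ, r.Prime → r ≠ 2 → Cfsg.PRankLE r 2 (↥H ⧸ Cfsg.pCore 2 ↥H) := by
  haveI : Fact (Nat.Prime 2) := ⟨Nat.prime_two⟩
  set Q := Cfsg.pCore 2 ↥H with hQdef
  have hQ2 : IsPGroup 2 Q := isPGroup_pCore 2
  set π := QuotientGroup.mk' Q with hπ
  have hπs : Function.Surjective π := QuotientGroup.mk'_surjective Q
  refine ⟨?_, fun r hr hr2 => ?_⟩
  · have h1 : IsPGroup 2 ((Cfsg.pCore 2 (↥H ⧸ Q)).comap π) :=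
      (isPGroup_pCore (G := ↥H ⧸ Q) 2).comap_of_ker_isPGroup π (by rw [hπ, QuotientGroup.ker_mk']; exact hQ2)
    have h2 := le_pCore (N := (Cfsg.pCore 2 (↥H ⧸ Q)).comap π) h1
    rw [← map_comap_eq_self_of_surjective hπs (Cfsg.pCore 2 (↥H ⧸ Q)), Subgroup.map_eq_bot_iff, hπ,
      QuotientGroup.ker_mk']
    exact h2
  · haveI := Fact.mk hr
    refine Cfsg.Lib.QTSolUniq.pRankLE_quotient Q ?_ (Cfsg.Lib.QTUniq.rank_le (hQT := hQ.1) hH r hr hr2)
    obtain ⟨j, hj⟩ := hQ2.exists_card_eq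
    rw [hj]
    exact ((Nat.coprime_primes Nat.prime_two hr).2 hr2.symm).pow_left j

/-- distinct `𝒞`-components commute modulo `O₂(H)` -/
theorem commutator_le_pCore (hQ : Cfsg.IsQTKE G) {H : Subgroup G} (hH : Cfsg.pCore 2 ↥H ≠ ⊥)
    {L M : Subgroup ↥H} (hL : L ∈ Cfsg.calC ↥H) (hM : M ∈ Cfsg.calC ↥H) (hne : L ≠ M) :
    ⁅L, M⁆ ≤ Cfsg.pCore 2 ↥H := by
  obtain ⟨R, hRn, hRs, hRf⟩ := exists_radical ↥H
  haveI := hRn
  obtain ⟨hML, hLM⟩ := commutator_le_rad hRs hRf hL hM hne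
  obtain ⟨hLnM, -⟩ := commutator_le_rad hRs hRf hM hL (Ne.symm hne)
  obtain ⟨hO, hrk⟩ := quotient_facts hQ hH
  set π := QuotientGroup.mk' (Cfsg.pCore 2 ↥H) with hπ
  have h := commutator_eq_bot_of_rank hrk hO (perfect_map π hL.2.1) (perfect_map π hM.2.1)
    (hL.2.2.1.map (QuotientGroup.mk'_surjective _))
    ((Subgroup.map_mono hLnM).trans (le_normalizer_map π)) ((Subgroup.map_mono hML).trans (le_normalizer_map π))
    (by rw [← map_commutator]; exact isSolvable_map π (Cfsg.Lib.Coprime.isSolvable_of_le hLM hRs))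
  rwa [← map_commutator, Subgroup.map_eq_bot_iff, hπ, QuotientGroup.ker_mk'] at h

/-- part (2) -/
theorem commutator_le_inf (hQ : Cfsg.IsQTKE G) {H : Subgroup G} (hH : Cfsg.pCore 2 ↥H ≠ ⊥)
    {L M : Subgroup ↥H} (hL : L ∈ Cfsg.calC ↥H) (hM : M ∈ Cfsg.calC ↥H) (hne : L ≠ M) :
    ⁅L, M⁆ ≤ (Cfsg.pCore 2 ↥L).map L.subtype ⊓ (Cfsg.pCore 2 ↥M).map M.subtype ∧
      (Cfsg.pCore 2 ↥L).map L.subtype ⊓ (Cfsg.pCore 2 ↥M).map M.subtype ≤ Cfsg.pCore 2 ↥H := by
  haveI : Fact (Nat.Prime 2) := ⟨Nat.prime_two⟩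
  obtain ⟨R, hRn, hRs, hRf⟩ := exists_radical ↥H
  haveI := hRn
  set Q := Cfsg.pCore 2 ↥H with hQdef
  have key : ∀ A B : Subgroup ↥H, A ∈ Cfsg.calC ↥H → B ∈ Cfsg.calC ↥H → A ≠ B →
      ⁅A, B⁆ ≤ (Cfsg.pCore 2 ↥A).map A.subtype := by
    intro A B hA hB hAB
    obtain ⟨hBA, -⟩ := commutator_le_rad hRs hRf hA hB hAB
    have h1 := commutator_le_pCore hQ hH hA hB hAB
    intro x hx
    have hxA : x ∈ A := (commutator_le.2 fun a ha b hb => by
      rw [commutatorElement_def, show a * b * a⁻¹ * b⁻¹ = a * (b * a⁻¹ * b⁻¹) by group]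
      exact mul_mem ha ((mem_normalizer_iff.1 (hBA hb) _).1 (Subgroup.inv_mem _ ha)) : ⁅A, B⁆ ≤ A) hx
    exact ⟨⟨x, hxA⟩, le_pCore (N := Q.subgroupOf A) ((isPGroup_pCore 2).comap_subtype (K := A))
      (mem_subgroupOf.2 (h1 hx)), rfl⟩
  refine ⟨le_inf (key L M hL hM hne) ?_, inf_le_left.trans (le_pCore_of_subnormal ?_ ((isPGroup_pCore 2).map _))⟩
  · rw [commutator_comm]
    exact key M L hM hL (Ne.symm hne)
  · exact isSubnormal_map_subtype hL.2.2.1 (inferInstance : (Cfsg.pCore 2 ↥L).Normal).isSubnormal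

end Cfsg.Lib.QTCComp
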